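import Groth.Agent.NormAmpleLib.Norm
import Groth.Agent.AmpleEmb.FiniteSet
import Groth.Agent.AmpleEmb.ComposeRel
import Groth.Agent.AmpleLib.RelLocal

/-! Ampleness descends along finite locally free surjections. -/

set_option autoImplicit false
set_option linter.style.haveILetI false
set_option backward.isDefEq.respectTransparency false

universe u

open CategoryTheory CategoryTheory.Limits AlgebraicGeometry TopologicalSpace Opposite
open Groth.Agent.ParaFLib Groth.Agent.PullbackMod Groth.Agent.DCohLib Groth.Agent.AmpleLib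

noncomputable section

namespace Groth.Agent.NormAmpleLib

variable {X X' : Scheme.{u}}

theorem pullMap_res (g : X' ⟶ X) (M : X.Modules) {W D : X.Opens} (h : W ≤ D) (m : Γ(M, D)) :
    ((Scheme.Modules.pullback g).obj M).presheaf.map (homOfLE (g.preimage_mono h)).op (pullMap g M le_rfl m) =
      pullMap g M le_rfl (M.presheaf.map (homOfLE h).op m) := by
  let N := (Scheme.Modules.pullback g).obj M
  let η := (Scheme.Modules.pullbackPushforwardAdjunction g).unit.app M
  have h1 : η.app W (M.presheaf.map (homOfLE h).op m) = N.presheaf.map (homOfLE (g.preimage_mono h)).op (η.app D m) :=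
    ConcreteCategory.congr_hom (η.mapPresheaf.naturality (homOfLE h).op) m
  show N.presheaf.map _ (N.presheaf.map _ (η.app D m)) = N.presheaf.map _ (η.app W (M.presheaf.map (homOfLE h).op m))
  rw [h1]
  exact (ParaFLib.res_res (L := N) le_rfl (g.preimage_mono h) (η.app D m)).trans
    (ParaFLib.res_res (L := N) (g.preimage_mono h) le_rfl (η.app D m)).symm

theorem gen_smul_inj {M : X.Modules} {W : X.Opens} {e : Γ(M, W)} (he : Gen W e) {a b : Γ(X, W)}
    (h : a • e = b • e) : a = b := by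
  apply (he W le_rfl).1
  simpa only [ParaFLib.res_self] using h

/-- The norm section: an invertible module with a section whose locus descends that of an upstairs section. -/
theorem exists_norm_section [CompactSpace X] (g : X' ⟶ X) [IsFinite g] [Surjective g]
    (hE : FlatMod.IsFinLocFree ((Scheme.Modules.pushforward g).obj (Coh.structureModule X')))
    {P : X.Modules} (hP : PicF.IsInvertible P) (s : Coh.structureModule X' ⟶ (Scheme.Modules.pullback g).obj P) :
    ∃ (R : ℕ) (t : Coh.structureModule X ⟶ CohB1.tensorPow P (R + 1)),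
      (∀ x : X, (∀ z, g z = x → z ∈ CohB1.genLocus _ s) → x ∈ CohB1.genLocus _ t) ∧
      (∀ z : X', g z ∈ CohB1.genLocus _ t → z ∈ CohB1.genLocus _ s) := by
  classical
  let P' := (Scheme.Modules.pullback g).obj P
  -- the charts
  have hloc : ∀ x : X, ∃ (D : X.Opens) (d : ℕ) (e : Γ(P, D)), x ∈ D ∧ IsAffineOpen D ∧ Nice g D d ∧ Gen D e := by
    intro x
    obtain ⟨D₀, d, hx0, hD₀, hn⟩ := exists_nice hE x
    obtain ⟨W, e, hxW, he⟩ := exists_gen_nhd hP x
    obtain ⟨f, hf, hxf⟩ := hD₀.exists_basicOpen_le (V := W) ⟨x, hxW⟩ hx0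
    exact ⟨X.basicOpen f, d, P.presheaf.map (homOfLE hf).op e, hxf, hD₀.basicOpen f,
      (nice_res hD₀ hn f rfl (X.basicOpen_le f)).1, he.res hf⟩
  choose D d e hxD hD hn he using hloc
  obtain ⟨T, hT⟩ := isCompact_univ.elim_finite_subcover (fun x : X => (D x : Set X)) (fun x => (D x).2)
    fun x _ => Set.mem_iUnion.2 ⟨x, hxD x⟩
  let R' := ∏ x ∈ T, d x
  have hR : 0 < R' := Finset.prod_pos fun x _ => nice_pos (hn x) (hxD x)
  obtain ⟨R, hR'⟩ : ∃ R, R' = R + 1 := ⟨R' - 1, (Nat.succ_pred_eq_of_pos hR).symm⟩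
  have hdvd : ∀ x : T, d x.1 ∣ R + 1 := fun x => hR' ▸ Finset.dvd_prod_of_mem d x.2
  -- the coefficients
  have hcoef : ∀ x : X, ∃ a : Γ(X', g ⁻¹ᵁ D x), a • pullMap g P le_rfl (e x) = resT (sec s) (g ⁻¹ᵁ D x) := fun x => by
    obtain ⟨a, ha⟩ := ((AmpleEmb.gen_pullMap g hP (he x)) _ le_rfl).2 (resT (sec s) (g ⁻¹ᵁ D x))
    simp only [ParaFLib.res_self] at ha
    exact ⟨a, ha⟩
  choose a ha using hcoef
  let c : ∀ x : T, Γ(X, D x.1) := fun x => nrm g (D x.1) (a x.1) ^ ((R + 1) / d x.1)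
  let sf : ∀ x : T, Γ(CohB1.tensorPow P (R + 1), D x.1) := fun x => c x • powLoc (e x.1) (R + 1)
  let G : TopCat.Sheaf Ab.{u} X.carrier := ⟨(CohB1.tensorPow P (R + 1)).presheaf, (CohB1.tensorPow P (R + 1)).isSheaf⟩
  have hcompat : TopCat.Presheaf.IsCompatible G.obj (fun x : T => D x.1) sf := by
    intro x y
    refine TopCat.Presheaf.section_ext G (D x.1 ⊓ D y.1) _ _ fun z hz => ?_
    obtain ⟨f, f', hff, hzf⟩ := exists_basicOpen_le_affine_inter (hD x.1) (hD y.1) z hz
    let W := X.basicOpen f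
    have hWx : W ≤ D x.1 := X.basicOpen_le f
    have hWy : W ≤ D y.1 := hff.le.trans (X.basicOpen_le f')
    obtain ⟨hnx, hrx⟩ := nice_res (hD x.1) (hn x.1) f rfl hWx
    obtain ⟨hny, hry⟩ := nice_res (hD y.1) (hn y.1) f' hff hWy
    have hd : d x.1 = d y.1 := nice_unique hnx hny hzf
    let ex := P.presheaf.map (homOfLE hWx).op (e x.1)
    let ey := P.presheaf.map (homOfLE hWy).op (e y.1)
    obtain ⟨u, hu⟩ := (((he x.1).res hWx) W le_rfl).2 ey
    simp only [ParaFLib.res_self] at hu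
    change u • ex = ey at hu
    let ax := X'.presheaf.map (homOfLE (g.preimage_mono hWx)).op (a x.1)
    let ay := X'.presheaf.map (homOfLE (g.preimage_mono hWy)).op (a y.1)
    have e1 : ax • pullMap g P le_rfl ex = resT (sec s) (g ⁻¹ᵁ W) := by
      rw [← pullMap_res g P hWx, ← P'.map_smul, ha, resT, resT, ParaFLib.res_res]
    have e2 : ay • pullMap g P le_rfl ey = resT (sec s) (g ⁻¹ᵁ W) := by
      rw [← pullMap_res g P hWy, ← P'.map_smul, ha, resT, resT, ParaFLib.res_res]
    rw [← hu, pullMap_smul, smul_smul, ← Scheme.Hom.app_eq_appLE, ← e1] at e2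
    have e3 : ay * g.app W u = ax := gen_smul_inj (AmpleEmb.gen_pullMap g hP ((he x.1).res hWx)) e2
    have key : (CohB1.tensorPow P (R + 1)).presheaf.map (homOfLE hWx).op (sf x) =
        (CohB1.tensorPow P (R + 1)).presheaf.map (homOfLE hWy).op (sf y) := by
      simp only [sf, c]
      rw [Scheme.Modules.map_smul, Scheme.Modules.map_smul, powLoc_res hWx, powLoc_res hWy, map_pow, map_pow, ← hrx, ← hry,
        show P.presheaf.map (homOfLE hWy).op (e y.1) = u • ex from hu.symm, powLoc_smul, smul_smul]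
      refine congrArg (· • powLoc ex (R + 1)) ?_
      show nrm g W ax ^ _ = nrm g W ay ^ _ * u ^ (R + 1)
      rw [← e3, map_mul, nrm_app hny, mul_pow, ← pow_mul, hd, Nat.mul_div_cancel' (hdvd y)]
    have k1 := congrArg ((CohB1.tensorPow P (R + 1)).presheaf.germ W z hzf) key
    rw [TopCat.Presheaf.germ_res_apply, TopCat.Presheaf.germ_res_apply] at k1
    simp only [G] at *
    erw [TopCat.Presheaf.germ_res_apply, TopCat.Presheaf.germ_res_apply]
    exact k1
  obtain ⟨σ, hσ, -⟩ := G.existsUnique_gluing' (fun x : T => D x.1) ⊤ (fun x => homOfLE le_top)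
    (fun z hz => by
      obtain ⟨x, hxT, hzx⟩ := Set.mem_iUnion₂.1 (hT (Set.mem_univ z))
      exact Opens.mem_iSup.2 ⟨⟨x, hxT⟩, hzx⟩) sf hcompat
  refine ⟨R, secHom (CohB1.tensorPow P (R + 1)) σ, ?_⟩
  have hloc' : ∀ x : T, CohB1.genLocus _ (secHom (CohB1.tensorPow P (R + 1)) σ) ⊓ D x.1 = X.basicOpen (nrm g (D x.1) (a x.1)) := fun x => by
    rw [genLocus_inf_eq_basicOpen _ (gen_powLoc (he x.1) (R + 1)) (a := c x)
      (by rw [sec_secHom]; exact (hσ x).symm)]
    have hq : 0 < (R + 1) / d x.1 :=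
      Nat.div_pos (Nat.le_of_dvd R.succ_pos (hdvd x)) (nice_pos (hn x.1) (hxD x.1))
    exact X.basicOpen_pow _ hq
  have hsa : ∀ x : X, CohB1.genLocus P' s ⊓ g ⁻¹ᵁ D x = X'.basicOpen (a x) := fun x =>
    genLocus_inf_eq_basicOpen s (AmpleEmb.gen_pullMap g hP (he x)) (ha x)
  refine ⟨fun x hx => ?_, fun z hz => ?_⟩
  · obtain ⟨y, hyT, hxy⟩ := Set.mem_iUnion₂.1 (hT (Set.mem_univ x))
    refine ((hloc' ⟨y, hyT⟩).ge (mem_basicOpen_nrm (hD y) (hn y) (a y) hxy fun z hz => ?_)).1
    exact (hsa y).le ⟨hx z hz, (show g z ∈ D y from hz.symm ▸ hxy)⟩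
  · obtain ⟨y, hyT, hzy⟩ := Set.mem_iUnion₂.1 (hT (Set.mem_univ (g z)))
    exact ((hsa y).ge (mem_basicOpen_of_nrm (hn y) (a y) ((hloc' ⟨y, hyT⟩).le ⟨hz, hzy⟩))).1

/-- An invertible module is ample when its pullback along a finite locally free surjection is. -/
theorem isAmple_of_pullback [CompactSpace X] (g : X' ⟶ X) [IsFinite g] [Surjective g]
    (hE : FlatMod.IsFinLocFree ((Scheme.Modules.pushforward g).obj (Coh.structureModule X')))
    {L : X.Modules} (hL : PicF.IsInvertible L) (h : CohB1.IsAmple ((Scheme.Modules.pullback g).obj L)) :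
    CohB1.IsAmple L := by
  refine ⟨hL, inferInstance, fun x => ?_⟩
  obtain ⟨_, ⟨N, hN, rfl⟩, hxN, -⟩ := X.isBasis_affineOpens.exists_subset_of_mem_open (Set.mem_univ x) isOpen_univ
  obtain ⟨n, s, hZ, hsub, -⟩ := AmpleEmb.exists_genLocus_finite h (IsFinite.finite_preimage_singleton g x)
    (U := g ⁻¹ᵁ N) (fun z hz => show g z ∈ N from hz.symm ▸ hxN)
  let P := CohB1.tensorPow L (n + 1)
  let s' : Coh.structureModule X' ⟶ (Scheme.Modules.pullback g).obj P := s ≫ (pullPow g L (n + 1)).inv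
  have hs' : CohB1.genLocus _ s' = CohB1.genLocus _ s := genLocus_comp_iso s (pullPow g L (n + 1)).symm
  obtain ⟨R, t, h1, h2⟩ := exists_norm_section g hE (isInvertible_tensorPow hL (n + 1)) s'
  obtain ⟨k, hk⟩ : ∃ k, (n + 1) * (R + 1) = k + 1 := ⟨(n + 1) * (R + 1) - 1, (Nat.succ_pred_eq_of_pos (by positivity)).symm⟩
  let t' := t ≫ (powMul L (n + 1) (R + 1) ≪≫ eqToIso (congrArg (CohB1.tensorPow L) hk)).hom
  have hx : x ∈ CohB1.genLocus _ t' := by
    rw [genLocus_comp_iso]
    exact h1 x fun z hz => hs'.ge (hZ hz)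
  have htN : CohB1.genLocus _ t' ≤ N := fun y hy => by
    rw [genLocus_comp_iso] at hy
    obtain ⟨z, rfl⟩ := g.surjective y
    exact hsub (hs'.le (h2 z hy))
  refine ⟨k, t', hx, ?_⟩
  have := isAffineOpen_inf_genLocus (isInvertible_tensorPow hL (k + 1)) t' hN
  rwa [inf_eq_left.2 htN] at this

end Groth.Agent.NormAmpleLib
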