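import Mathlib

/-! Norms of integral elements over a domain with an integrally closed localization. -/

set_option autoImplicit false
set_option linter.style.haveILetI false

universe u

open Polynomial

namespace Groth.Agent.NormAmpleLib

/-- A monic polynomial whose roots all kill a given monic polynomial divides a power of it. -/
theorem dvd_pow_of_roots {K : Type u} [Field K] {q h : K[X]} (hq : q.Monic)
    (hr : ∀ μ : AlgebraicClosure K, aeval μ q = 0 → aeval μ h = 0) : q ∣ h ^ q.natDegree := by
  let L := AlgebraicClosure K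
  refine (map_dvd_map (algebraMap K L) (algebraMap K L).injective hq).1 ?_
  have hs : (q.map (algebraMap K L)).Splits := IsAlgClosed.splits _
  rw [hs.eq_prod_roots_of_monic (hq.map _), Polynomial.map_pow]
  calc ((q.map (algebraMap K L)).roots.map (X - C ·)).prod ∣ ((q.map (algebraMap K L)).roots.map fun _ => h.map (algebraMap K L)).prod := by
        refine Multiset.prod_dvd_prod_of_dvd _ _ fun μ hμ => dvd_iff_isRoot.2 ?_
        rw [IsRoot.def, eval_map_algebraMap]
        refine hr μ ?_
        rw [← eval_map_algebraMap]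
        exact (mem_roots'.1 hμ).2
    _ = (h.map (algebraMap K L)) ^ q.natDegree := by
        rw [Multiset.map_const', Multiset.prod_replicate, ← hs.natDegree_eq_card_roots, natDegree_map]

/-- Coefficients of the characteristic polynomial of a matrix killed by an integral monic are integral. -/
theorem isIntegral_charpoly_coeff {A K : Type u} [CommRing A] [Field K] [Algebra A K] {d : ℕ}
    (M : Matrix (Fin d) (Fin d) K) {h : A[X]} (hh : h.Monic) (hM : aeval M h = 0) (i : ℕ) :
    IsIntegral A (M.charpoly.coeff i) := by
  have hq := M.charpoly_monic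
  refine isIntegral_coeff_of_dvd (h ^ M.charpoly.natDegree) _ (hh.pow _) hq ?_ i
  rw [Polynomial.map_pow]
  refine dvd_pow_of_roots hq fun μ hμ => ?_
  let ψ : K →+* AlgebraicClosure K := algebraMap K (AlgebraicClosure K)
  let M' : Matrix (Fin d) (Fin d) (AlgebraicClosure K) := (Algebra.ofId K (AlgebraicClosure K)).mapMatrix M
  have hsp : μ ∈ spectrum (AlgebraicClosure K) M' := by
    rw [Matrix.mem_spectrum_iff_isRoot_charpoly, show M'.charpoly = M.charpoly.map ψ from Matrix.charpoly_map M ψ,
      IsRoot.def, eval_map_algebraMap]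
    exact hμ
  have h0 : aeval M' (h.map (algebraMap A (AlgebraicClosure K))) = 0 := by
    rw [IsScalarTower.algebraMap_eq A K (AlgebraicClosure K), ← Polynomial.map_map, aeval_map_algebraMap, aeval_algHom_apply, aeval_map_algebraMap, hM, map_zero]
  have h1 := spectrum.subset_polynomial_aeval M' (h.map (algebraMap A (AlgebraicClosure K))) ⟨μ, hsp, rfl⟩
  rw [h0] at h1
  haveI : Nontrivial (Matrix (Fin d) (Fin d) (AlgebraicClosure K)) := by
    rcases Nat.eq_zero_or_pos d with rfl | hd
    · exact absurd hsp (by simp)
    · haveI : Nonempty (Fin d) := ⟨⟨0, hd⟩⟩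
      infer_instance
  rw [spectrum.zero_eq] at h1
  rw [aeval_map_algebraMap, ← eval_map_algebraMap]
  exact h1

/-- Scaled norms of integral elements lie in the base. -/
theorem exists_norm_lift {A A' B B' : Type u} [CommRing A] [IsDomain A] [CommRing A'] [CommRing B] [CommRing B']
    [Algebra A B] [Algebra.IsIntegral A B] [Algebra A A'] [Algebra A B'] [Algebra A' B'] [IsScalarTower A A' B']
    (φ : B →ₐ[A] B') {f : A} (hf : f ≠ 0) [IsLocalization.Away f A']
    {d : ℕ} (b : Module.Basis (Fin d) A' B') (p : Ideal A) [p.IsPrime]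
    [IsIntegrallyClosed (Localization.AtPrime p)] (a : B) :
    ∃ s ∉ p, ∃ (c : A) (e : B), algebraMap A A' c = algebraMap A A' s * Algebra.norm A' (φ a) ∧
      φ a * φ e = algebraMap A B' c := by
  classical
  let K := FractionRing A
  have hf' : IsUnit (algebraMap A K f) :=
    (IsUnit.mk0 _ (by simpa using (IsFractionRing.injective A K).ne hf))
  letI : Algebra A' K := (IsLocalization.Away.lift f hf' : A' →+* K).toAlgebra
  haveI : IsScalarTower A A' K := .of_algebraMap_eq fun x => (IsLocalization.Away.lift_eq f hf' x).symm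
  haveI : IsFractionRing A' K :=
    IsFractionRing.isFractionRing_of_isDomain_of_isLocalization (Submonoid.powers f) A' K
  let h := minpoly A a
  have hh : h.Monic := minpoly.monic (Algebra.IsIntegral.isIntegral a)
  let T : B' →ₐ[A'] Matrix (Fin d) (Fin d) A' := Algebra.leftMulMatrix b
  let q := (T (φ a)).charpoly
  let M : Matrix (Fin d) (Fin d) K := (IsScalarTower.toAlgHom A A' K).mapMatrix (T (φ a))
  have hM : aeval M h = 0 := by
    rw [show M = ((IsScalarTower.toAlgHom A A' K).mapMatrix.comp ((T.restrictScalars A).comp φ)) a from rfl,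
      aeval_algHom_apply, minpoly.aeval, map_zero]
  have hq : ∀ i, IsIntegral A (algebraMap A' K (q.coeff i)) := fun i => by
    rw [← coeff_map, ← Matrix.charpoly_map]
    exact isIntegral_charpoly_coeff M hh hM i
  let P := Localization.AtPrime p
  have hu : ∀ y : p.primeCompl, IsUnit (algebraMap A K y) := fun y =>
    IsUnit.mk0 _ (by simpa using (IsFractionRing.injective A K).ne (fun hy : (y : A) = 0 => y.2 (hy ▸ p.zero_mem)))
  letI : Algebra P K := (IsLocalization.lift hu : P →+* K).toAlgebra
  haveI : IsScalarTower A P K := .of_algebraMap_eq fun x => (IsLocalization.lift_eq hu x).symm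
  haveI : IsFractionRing P K :=
    IsFractionRing.isFractionRing_of_isDomain_of_isLocalization p.primeCompl P K
  have hr : ∀ i, ∃ (s : A) (r : A), s ∉ p ∧ algebraMap A A' r = algebraMap A A' s * q.coeff i := fun i => by
    obtain ⟨y, hy⟩ := IsIntegrallyClosed.isIntegral_iff.1 ((hq i).tower_top (A := P))
    obtain ⟨⟨r, s⟩, hrs⟩ := IsLocalization.surj p.primeCompl y
    refine ⟨s, r, s.2, IsFractionRing.injective A' K ?_⟩
    rw [map_mul, ← hy, ← IsScalarTower.algebraMap_apply, ← IsScalarTower.algebraMap_apply,
      IsScalarTower.algebraMap_apply A P K, IsScalarTower.algebraMap_apply A P K (s : A), ← map_mul, mul_comm]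
    exact (congrArg (algebraMap P K) hrs).symm
  choose s r hs hr using hr
  let S := ∏ i ∈ Finset.range (q.natDegree + 1), s i
  have hS : S ∉ p := fun hS => by
    obtain ⟨i, -, hi⟩ := (‹p.IsPrime›).prod_mem_iff.1 hS
    exact hs i hi
  have hlift : C (algebraMap A A' S) * q ∈ lifts (algebraMap A A') := by
    rw [lifts_iff_coeff_lifts]
    intro i
    rw [coeff_C_mul]
    by_cases hi : i ∈ Finset.range (q.natDegree + 1)
    · refine ⟨(∏ j ∈ (Finset.range (q.natDegree + 1)).erase i, s j) * r i, ?_⟩
      rw [map_mul, hr, ← mul_assoc, ← map_mul, mul_comm _ (s i), Finset.mul_prod_erase _ _ hi]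
    · refine ⟨0, ?_⟩
      rw [Polynomial.coeff_eq_zero_of_natDegree_lt (by simpa using hi), mul_zero, map_zero]
  obtain ⟨R, hR⟩ := (mem_lifts _).1 hlift
  haveI : Nontrivial A' := (algebraMap A' K).domain_nontrivial
  refine ⟨S, hS, (-1) ^ d * R.coeff 0, -((-1) ^ d * aeval a R.divX), ?_, ?_⟩
  · have hd : algebraMap A A' (R.coeff 0) = algebraMap A A' S * q.coeff 0 := by
      rw [← coeff_C_mul, ← hR, coeff_map]
    rw [map_mul, hd, Algebra.norm_eq_matrix_det b, Matrix.det_eq_sign_charpoly_coeff, Fintype.card_fin]
    simp only [map_pow, map_neg, map_one]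
    ring
  · have h0 : aeval (φ a) R = 0 := by
      have hq0 : aeval (φ a) q = 0 := by
        apply Algebra.leftMulMatrix_injective b
        rw [← aeval_algHom_apply, map_zero]
        exact Matrix.aeval_self_charpoly (T (φ a))
      rw [← aeval_map_algebraMap (A := A'), hR, map_mul, hq0, mul_zero]
    rw [← X_mul_divX_add R, map_add, map_mul, aeval_X, aeval_C, aeval_algHom_apply] at h0
    rw [map_neg, map_mul, map_pow, map_neg, map_one, map_mul, map_pow, map_neg, map_one, eq_neg_of_add_eq_zero_right h0]
    ring

end Groth.Agent.NormAmpleLib
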