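import Groth.Agent.NormAmpleLib.Norm
import Groth.Agent.NormAmpleLib.NormalAlg
import Groth.Agent.FlatLocus.FreeNhd
import Groth.Agent.FinLocFreeLib.PushFP
import Groth.Agent.NormalSch.Curve
import Groth.Agent.FlatStage.Smooth

/-! Norms of functions along finite surjections, generically free, onto normal points. -/

set_option autoImplicit false
set_option linter.style.haveILetI false
set_option backward.isDefEq.respectTransparency false

universe u

open CategoryTheory CategoryTheory.Limits AlgebraicGeometry TopologicalSpace Opposite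

noncomputable section

namespace Groth.Agent.NormAmpleLib

variable {X X' : Scheme.{u}} {g : X' ⟶ X}


theorem exists_nice_at [IsAffineHom g] {Y : Scheme.{u}} (j : Y ⟶ X) [IsOpenImmersion j] {n : ℕ}
    (e : ((Scheme.Modules.pushforward g).obj (Coh.structureModule X')).restrict j ≅ FlatMod.freeMod Y n)
    {x : X} (hxU : x ∈ j.opensRange) : ∃ (D : X.Opens) (d : ℕ), x ∈ D ∧ IsAffineOpen D ∧ Nice g D d := by
  let P := (Scheme.Modules.pushforward g).obj (Coh.structureModule X')
  haveI : Coh.IsQCoh P := QCohLib.isQCoh_pushforward _ g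
  obtain ⟨_, ⟨D : X.Opens, (hD : IsAffineOpen D), rfl⟩, hxD, hDU⟩ :=
    X.isBasis_affineOpens.exists_subset_of_mem_open (a := x) (u := ↑j.opensRange) hxU j.opensRange.2
  let v : Spec Γ(X, D) ⟶ Y := IsOpenImmersion.lift j hD.fromSpec (by rw [hD.range_fromSpec]; exact hDU)
  have hv : v ≫ j = hD.fromSpec := IsOpenImmersion.lift_fac _ _ _
  haveI : IsOpenImmersion v := by
    haveI : IsOpenImmersion (v ≫ j) := hv ▸ inferInstance
    exact IsOpenImmersion.of_comp v j
  let F := Scheme.Modules.restrictFunctor v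
  haveI : PreservesColimitsOfSize.{u, u} F :=
    (Scheme.Modules.restrictAdjunction v).leftAdjoint_preservesColimits
  let i : P.restrict hD.fromSpec ≅ tilde (ModuleCat.of Γ(X, D) (ULift.{u} (Fin n) →₀ Γ(X, D))) :=
    ((Scheme.Modules.restrictFunctorComp v j).symm ≪≫
      Scheme.Modules.restrictFunctorCongr (g := hD.fromSpec)
        hv).symm.app P ≪≫
    F.mapIso e ≪≫
    F.mapIso (Sigma.whiskerEquiv (Equiv.ulift.{u, 0} (α := Fin n)) fun _ => Iso.refl _).symm ≪≫
    PreservesCoproduct.iso F _ ≪≫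
    Limits.Sigma.mapIso (fun _ => Scheme.Modules.restrictUnitIso v) ≪≫
    (tildeFinsupp _).symm
  refine ⟨D, n, hxD, hD, ?_⟩
  letI := alg g D
  let eΓ := (moduleSpecΓFunctor (R := Γ(X, D))).mapIso i ≪≫ ((tilde.toTildeΓNatIso (R := Γ(X, D))).app _).symm
  let e' : Γ(P, D) ≃ₗ[Γ(X, D)] (ULift.{u} (Fin n) →₀ Γ(X, D)) :=
    (QCohLib.topEquiv P hD).symm.trans eΓ.toLinearEquiv
  let e₀ : Γ(X', g ⁻¹ᵁ D) ≃ₗ[Γ(X, D)] Γ(P, D) :=
    { AddEquiv.refl _ with map_smul' := fun r s => Algebra.smul_def r s }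
  exact ⟨(Module.Basis.ofRepr (e₀.trans e')).reindex Equiv.ulift⟩

theorem isFP_push_structure [IsNoetherian X] [IsFinite g] :
    CohB1.IsFP ((Scheme.Modules.pushforward g).obj (Coh.structureModule X')) :=
  haveI : LocallyOfFinitePresentation g := inferInstance
  (FinLocFreeLib.isFP_push_iff g _).1 (FlatStage.isFP_structureModule X')

theorem flat_of_isField {R : Type u} [CommRing R] (h : IsField R) (M : Type u) [AddCommGroup M] [Module R M] :
    Module.Flat R M := by
  letI := h.toField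
  infer_instance

theorem exists_nice_in [IsNoetherian X] [IsReduced X] [IsFinite g] {U : X.Opens} {x : X} (hx : x ∈ U) :
    ∃ (W : X.Opens) (d : ℕ) (y : X), y ∈ W ∧ W ≤ U ∧ IsAffineOpen W ∧ Nice g W d := by
  obtain ⟨C, hC, hxC⟩ : x ∈ ⋃₀ irreducibleComponents X := (sUnion_irreducibleComponents (X := X)).ge trivial
  obtain ⟨η, hη⟩ := QuasiSober.sober hC.1 (isClosed_of_mem_irreducibleComponents _ hC)
  have hηU : η ∈ U := (hη.specializes hxC).mem_open U.2 hx
  haveI : Coh.IsQCoh ((Scheme.Modules.pushforward g).obj (Coh.structureModule X')) :=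
    QCohLib.isQCoh_pushforward _ g
  have hfield : IsField (X.presheaf.stalk η) :=
    isField_stalk_of_closure_mem_irreducibleComponents X η (hη.def.symm ▸ hC)
  let P := (Scheme.Modules.pushforward g).obj (Coh.structureModule X')
  have hflat : Module.Flat (X.presheaf.stalk η) (P.presheaf.stalk η) :=
    flat_of_isField hfield _
  obtain ⟨U₁, n, hηU₁, ⟨i⟩⟩ := FlatLocus.exists_free_nhd P (isFP_push_structure (g := g)) η hflat
  obtain ⟨D, d, hηD, hD, hn⟩ := exists_nice_at (g := g) U₁.ι i (by rwa [Scheme.Opens.opensRange_ι])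
  obtain ⟨f, hf, hηf⟩ := hD.exists_basicOpen_le (V := U) ⟨η, hηU⟩ hηD
  exact ⟨X.basicOpen f, d, η, hηf, hf, hD.basicOpen f, (nice_res hD hn f rfl (X.basicOpen_le f)).1⟩

/-- Two functions agreeing on every nice open inside an open are equal. -/
theorem eq_of_nice [IsNoetherian X] [IsReduced X] [IsFinite g] {U : X.Opens} {a b : Γ(X, U)}
    (h : ∀ (W : X.Opens) (hW : W ≤ U) (d : ℕ), IsAffineOpen W → Nice g W d →
      X.presheaf.map (homOfLE hW).op a = X.presheaf.map (homOfLE hW).op b) : a = b := by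
  rw [← sub_eq_zero, ← basicOpen_eq_bot_iff]
  by_contra hne
  obtain ⟨x, hx⟩ : ∃ x, x ∈ X.basicOpen (a - b) := by
    by_contra hh
    exact hne (Opens.ext (Set.eq_empty_iff_forall_notMem.2 fun x hx => hh ⟨x, hx⟩))
  obtain ⟨W, d, y, hy, hWU, hWa, hn⟩ := exists_nice_in (g := g) hx
  have hW : W ≤ U := hWU.trans (X.basicOpen_le _)
  have h1 : y ∈ X.basicOpen (X.presheaf.map (homOfLE hW).op (a - b)) := by
    rw [Scheme.basicOpen_res]; exact ⟨hy, hWU hy⟩
  rw [map_sub, h W hW d hWa hn, sub_self, Scheme.basicOpen_zero] at h1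
  exact h1

theorem res_res' (X : Scheme.{u}) {U V W : X.Opens} (h : V ≤ U) (h' : W ≤ V) (a : Γ(X, U)) :
    X.presheaf.map (homOfLE h').op (X.presheaf.map (homOfLE h).op a) = X.presheaf.map (homOfLE (h'.trans h)).op a := by
  rw [← ConcreteCategory.comp_apply, ← X.presheaf.map_comp, ← op_comp, homOfLE_comp]

/-- The norms of two overlapping nice affine opens agree near each common point. -/
theorem exists_nrm_overlap [IsAffineHom g] {W W' : X.Opens} (hW : IsAffineOpen W) (hW' : IsAffineOpen W') {d d' : ℕ}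
    (hn : Nice g W d) (hn' : Nice g W' d') {z : X} (hz : z ∈ W) (hz' : z ∈ W') {U : X.Opens}
    (hWU : W ≤ U) (hWU' : W' ≤ U) (a : Γ(X', g ⁻¹ᵁ U)) :
    d = d' ∧ ∃ (Z : X.Opens) (hZ : Z ≤ W) (hZ' : Z ≤ W'), z ∈ Z ∧
      X.presheaf.map (homOfLE hZ).op (nrm g W (X'.presheaf.map (homOfLE (g.preimage_mono hWU)).op a)) =
      X.presheaf.map (homOfLE hZ').op (nrm g W' (X'.presheaf.map (homOfLE (g.preimage_mono hWU')).op a)) := by
  obtain ⟨f, f', hff, hzf⟩ := exists_basicOpen_le_affine_inter hW hW' z ⟨hz, hz'⟩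
  have hWx : X.basicOpen f ≤ W := X.basicOpen_le f
  have hWy : X.basicOpen f ≤ W' := hff.le.trans (X.basicOpen_le f')
  obtain ⟨h1, h2⟩ := nice_res hW hn f rfl hWx
  obtain ⟨h3, h4⟩ := nice_res hW' hn' f' hff hWy
  refine ⟨nice_unique h1 h3 hzf, _, hWx, hWy, hzf, ?_⟩
  rw [← h2, ← h4, res_res', res_res']

/-- A function on an open is a norm of one upstairs. -/
structure IsNorm (g : X' ⟶ X) {D : X.Opens} (d : ℕ) (a : Γ(X', g ⁻¹ᵁ D)) (c : Γ(X, D)) : Prop where
  rank : ∀ (W : X.Opens) (d' : ℕ), W ≤ D → IsAffineOpen W → Nice g W d' → ∀ y ∈ W, d' = d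
  val : ∀ (W : X.Opens) (d' : ℕ) (h : W ≤ D), IsAffineOpen W → Nice g W d' →
    nrm g W (X'.presheaf.map (homOfLE (g.preimage_mono h)).op a) = X.presheaf.map (homOfLE h).op c
  exists_mem : ∀ y ∈ X.basicOpen c, ∃ z, g z = y ∧ z ∈ X'.basicOpen a

theorem isNorm_free [IsAffineHom g] [Surjective g] {D : X.Opens} (hD : IsAffineOpen D) {d : ℕ} (hn : Nice g D d)
    (a : Γ(X', g ⁻¹ᵁ D)) : IsNorm g d a (nrm g D a) where
  rank W d' h hW hn' y hy :=
    (exists_nrm_overlap hW hD hn' hn hy (h hy) h le_rfl a).1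
  val W d' h hW hn' := by
    refine TopCat.Presheaf.section_ext X.sheaf W _ _ fun z hz => ?_
    obtain ⟨-, Z, hZ, hZ', hzZ, e⟩ := exists_nrm_overlap hW hD hn' hn hz (h hz) h le_rfl a
    rw [show X'.presheaf.map (homOfLE (g.preimage_mono (le_refl D))).op a = a from
      ConcreteCategory.congr_hom (X'.presheaf.map_id _) a] at e
    have := congrArg (X.presheaf.germ Z z hzZ) e
    erw [TopCat.Presheaf.germ_res_apply, TopCat.Presheaf.germ_res_apply] at this
    erw [TopCat.Presheaf.germ_res_apply]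
    exact this
  exists_mem y hy := by
    obtain ⟨z, rfl⟩ := g.surjective y
    exact ⟨z, rfl, mem_basicOpen_of_nrm hn a hy⟩

theorem isUnit_of_add_eq {R : Type u} [CommRing R] [IsLocalRing R] {a e c : R} (hc : IsUnit c)
    (h : ¬ IsUnit (a * e - c)) : IsUnit a := by
  by_contra ha
  have h1 : a * e ∈ nonunits R := fun hu => ha (isUnit_of_mul_isUnit_left hu)
  have h2 := IsLocalRing.nonunits_add h1 (show -(a * e - c) ∈ nonunits R from fun hu => h (by simpa using hu.neg))
  exact h2 (by rwa [show a * e + -(a * e - c) = c by ring])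

/-- Near a normal point every function upstairs has a norm. -/
theorem exists_isNorm_normal [IsNoetherian X] [IsReduced X] [IsFinite g] [Surjective g]
    {x : X} [IsDomain (X.presheaf.stalk x)] [IsIntegrallyClosed (X.presheaf.stalk x)]
    {D : X.Opens} (hD : IsAffineOpen D) (hx : x ∈ D) {ξ : X} (hξ : (D : Set X) ⊆ closure {ξ})
    (a : Γ(X', g ⁻¹ᵁ D)) :
    ∃ (W : X.Opens) (h : W ≤ D) (d : ℕ) (c : Γ(X, W)), x ∈ W ∧ IsAffineOpen W ∧ 0 < d ∧
      IsNorm g d (X'.presheaf.map (homOfLE (g.preimage_mono h)).op a) c := by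
  classical
  have hgen : ∀ {U : X.Opens} {y : X}, y ∈ D → y ∈ U → ξ ∈ U := fun {U y} hyD hyU =>
    (specializes_iff_mem_closure.2 (hξ hyD)).mem_open U.2 hyU
  haveI : Nonempty D := ⟨⟨x, hx⟩⟩
  haveI : IsDomain Γ(X, D) := by
    haveI : Nontrivial Γ(X, D) := inferInstance
    haveI : NoZeroDivisors Γ(X, D) := ⟨fun {r s} hrs => by
      by_contra hne
      push Not at hne
      obtain ⟨hr, hs⟩ := hne
      have hb : ∀ {t : Γ(X, D)}, t ≠ 0 → ξ ∈ X.basicOpen t := fun {t} ht => by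
        obtain ⟨y, hy⟩ : ∃ y, y ∈ X.basicOpen t := by
          by_contra hh
          exact ht ((basicOpen_eq_bot_iff t).1 (Opens.ext (Set.eq_empty_iff_forall_notMem.2 fun y hy => hh ⟨y, hy⟩)))
        exact hgen (X.basicOpen_le t hy) hy
      have hm : ξ ∈ X.basicOpen (r * s) := by rw [Scheme.basicOpen_mul]; exact ⟨hb hr, hb hs⟩
      rw [hrs, Scheme.basicOpen_zero] at hm
      exact hm⟩
    exact NoZeroDivisors.to_isDomain _
  obtain ⟨W₀, d, y, hy, hW₀D, hW₀, hn₀⟩ := exists_nice_in (g := g) hx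
  obtain ⟨f, f', hff, hξf⟩ := exists_basicOpen_le_affine_inter hD hW₀ ξ
    ⟨hgen hx hx, hgen (hW₀D hy) hy⟩
  let V := X.basicOpen f
  have hVD : V ≤ D := X.basicOpen_le f
  have hnV : Nice g V d := (nice_res hW₀ hn₀ f' hff (hff.le.trans (X.basicOpen_le f'))).1
  have hf0 : f ≠ 0 := fun h0 => by
    rw [h0, Scheme.basicOpen_zero] at hξf
    exact hξf
  letI := alg g D
  letI := alg g V
  letI : Algebra Γ(X, D) Γ(X, V) := (X.presheaf.map (homOfLE hVD).op).hom.toAlgebra
  letI : Algebra Γ(X, D) Γ(X', g ⁻¹ᵁ V) :=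
    ((g.app V).hom.comp (X.presheaf.map (homOfLE hVD).op).hom).toAlgebra
  haveI : IsScalarTower Γ(X, D) Γ(X, V) Γ(X', g ⁻¹ᵁ V) := .of_algebraMap_eq fun _ => rfl
  haveI : IsLocalization.Away f Γ(X, V) := hD.isLocalization_basicOpen f
  let φ : Γ(X', g ⁻¹ᵁ D) →ₐ[Γ(X, D)] Γ(X', g ⁻¹ᵁ V) :=
    { (X'.presheaf.map (homOfLE (g.preimage_mono hVD)).op).hom with
      commutes' := fun r => (ConcreteCategory.congr_hom (g.naturality (homOfLE hVD).op) r).symm }
  haveI : Algebra.IsIntegral Γ(X, D) Γ(X', g ⁻¹ᵁ D) := by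
    haveI : Module.Finite Γ(X, D) Γ(X', g ⁻¹ᵁ D) := (g.finite_app D hD)
    infer_instance
  let p := (hD.primeIdealOf ⟨x, hx⟩).asIdeal
  haveI : IsIntegrallyClosed (Localization.AtPrime p) := by
    letI : Algebra Γ(X, D) (X.presheaf.stalk x) := TopCat.Presheaf.algebra_section_stalk X.presheaf ⟨x, hx⟩
    haveI := hD.isLocalization_stalk ⟨x, hx⟩
    exact IsIntegrallyClosed.of_equiv (IsLocalization.algEquiv p.primeCompl (X.presheaf.stalk x) (Localization.AtPrime p)).toRingEquiv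
  obtain ⟨b⟩ := hnV
  obtain ⟨s, hs, c₀, e₀, hc, he⟩ := exists_norm_lift φ hf0 b p a
  let W := X.basicOpen s
  have hWD : W ≤ D := X.basicOpen_le s
  have hxW : x ∈ W := by
    have h := SetLike.ext_iff.mp (hD.fromSpec_preimage_basicOpen s) (hD.primeIdealOf ⟨x, hx⟩)
    rw [Scheme.Hom.mem_preimage, hD.fromSpec_primeIdealOf] at h
    exact h.mpr hs
  obtain ⟨si, hsi⟩ := IsUnit.exists_right_inv (show IsUnit (X.presheaf.map (homOfLE hWD).op s) from RingedSpace.isUnit_res_basicOpen X.toRingedSpace s)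
  let c : Γ(X, W) := X.presheaf.map (homOfLE hWD).op c₀ * si
  have hnV' : Nice g V d := ⟨b⟩
  have hd : 0 < d := nice_pos hnV' hξf
  refine ⟨W, hWD, d, c, hxW, hD.basicOpen s, hd, ?_, ?_, ?_⟩
  · intro W' d' h hW' hn' y hy
    exact (exists_nrm_overlap hW' (hD.basicOpen f) hn' hnV' (hgen (hWD (h hy)) hy) hξf (h.trans hWD) hVD a).1
  · intro W' d' h hW' hn'
    refine eq_of_nice (g := g) fun W'' hW'' d'' hW''a hn'' => ?_
    have hW''D : W'' ≤ D := (hW''.trans h).trans hWD
    rcases Classical.em (∃ y, y ∈ W'') with ⟨y, hy⟩ | hempty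
    swap
    · exact TopCat.Presheaf.section_ext X.sheaf W'' _ _ fun z hz => absurd ⟨z, hz⟩ hempty
    obtain ⟨-, Z, hZ, hZ', hξZ, e1⟩ := exists_nrm_overlap hW' (hD.basicOpen f) hn' hnV'
      (hgen (hW''D hy) (hW'' hy)) hξf (h.trans hWD) hVD a
    have hZW : Z ≤ W := hZ.trans h
    have e2 : X.presheaf.map (homOfLE hZ').op (nrm g V (φ a)) = X.presheaf.map (homOfLE hZW).op c := by
      have hc' := congrArg (X.presheaf.map (homOfLE hZ').op) hc
      rw [map_mul] at hc'
      have k := congrArg (X.presheaf.map (homOfLE hZW).op) hsi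
      rw [map_mul, map_one] at k
      erw [res_res' X hVD hZ', res_res' X hVD hZ'] at hc'
      erw [res_res' X hWD hZW] at k
      simp only [c, map_mul]
      erw [res_res' X hWD hZW, hc']
      rw [mul_right_comm]
      erw [k]
      exact (one_mul _).symm
    -- both sides agree at the generic point, hence everywhere
    rw [← sub_eq_zero, ← basicOpen_eq_bot_iff]
    by_contra hne
    obtain ⟨z, hz⟩ : ∃ z, z ∈ X.basicOpen
        (X.presheaf.map (homOfLE hW'').op (nrm g W' (X'.presheaf.map (homOfLE (g.preimage_mono h)).op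
          (X'.presheaf.map (homOfLE (g.preimage_mono hWD)).op a))) -
        X.presheaf.map (homOfLE hW'').op (X.presheaf.map (homOfLE h).op c)) := by
      by_contra hh
      exact hne (Opens.ext (Set.eq_empty_iff_forall_notMem.2 fun z hz => hh ⟨z, hz⟩))
    rw [← map_sub, Scheme.basicOpen_res] at hz
    have hξ' := hgen (hW''D hz.1) hz.2
    have h0 : X.presheaf.map (homOfLE hZ).op (nrm g W' (X'.presheaf.map (homOfLE (g.preimage_mono h)).op
          (X'.presheaf.map (homOfLE (g.preimage_mono hWD)).op a)) - X.presheaf.map (homOfLE h).op c) = 0 := by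
      rw [map_sub, res_res', res_res' X h hZ, e1, sub_eq_zero]
      exact e2
    have h1 : ξ ∈ X.basicOpen (X.presheaf.map (homOfLE hZ).op (nrm g W' (X'.presheaf.map (homOfLE (g.preimage_mono h)).op
          (X'.presheaf.map (homOfLE (g.preimage_mono hWD)).op a)) - X.presheaf.map (homOfLE h).op c)) := by
      rw [Scheme.basicOpen_res]; exact ⟨hξZ, hξ'⟩
    rw [h0, Scheme.basicOpen_zero] at h1
    exact h1
  · intro y hy
    have hyW : y ∈ W := X.basicOpen_le c hy
    have hyD := hWD hyW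
    obtain ⟨ζ, hζ⟩ := g.surjective ξ
    obtain ⟨z, hz, rfl⟩ : y ∈ g '' closure {ζ} := by
      refine (g.isClosedMap _ isClosed_closure).closure_subset_iff.2 ?_ (hξ hyD)
      rintro _ rfl
      exact ⟨ζ, subset_closure rfl, hζ⟩
    refine ⟨z, rfl, ?_⟩
    have hzD : z ∈ g ⁻¹ᵁ D := hyD
    let δ : Γ(X', g ⁻¹ᵁ D) := a * e₀ - g.app D c₀
    have hδ : z ∉ X'.basicOpen δ := fun hzδ => by
      have hζδ : ζ ∈ X'.basicOpen δ := (specializes_iff_mem_closure.2 hz).mem_open (X'.basicOpen δ).2 hzδ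
      have h0 : X'.presheaf.map (homOfLE (g.preimage_mono hVD)).op δ = 0 := by
        show φ δ = 0
        rw [map_sub, map_mul, he, sub_eq_zero]
        exact (φ.commutes c₀).symm
      have h1 : ζ ∈ X'.basicOpen (X'.presheaf.map (homOfLE (g.preimage_mono hVD)).op δ) := by
        rw [Scheme.basicOpen_res]; exact ⟨(show g ζ ∈ V by rw [hζ]; exact hξf), hζδ⟩
      rw [h0, Scheme.basicOpen_zero] at h1
      exact h1
    have hc₀ : z ∈ X'.basicOpen (g.app D c₀) := by
      rw [← Scheme.preimage_basicOpen]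
      show g z ∈ X.basicOpen c₀
      change g z ∈ X.basicOpen (X.presheaf.map (homOfLE hWD).op c₀ * si) at hy
      rw [Scheme.basicOpen_mul, Scheme.basicOpen_res] at hy
      exact hy.1.2
    rw [Scheme.basicOpen_res]
    refine ⟨hyW, ?_⟩
    refine (X'.mem_basicOpen a z hzD).2 ?_
    rw [X'.mem_basicOpen δ z hzD, map_sub, map_mul] at hδ
    exact isUnit_of_add_eq ((X'.mem_basicOpen _ z hzD).1 hc₀) hδ

/-- The norm of a function invertible on the fibre of a normal point is invertible there. -/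
theorem mem_basicOpen_of_isNorm [IsNoetherian X] [IsReduced X] [IsFinite g] [Surjective g]
    {x : X} [IsDomain (X.presheaf.stalk x)] [IsIntegrallyClosed (X.presheaf.stalk x)]
    {D : X.Opens} (hD : IsAffineOpen D) (hx : x ∈ D) {ξ : X} (hξ : (D : Set X) ⊆ closure {ξ})
    {a : Γ(X', g ⁻¹ᵁ D)} {d : ℕ} {c : Γ(X, D)} (hc : IsNorm g d a c)
    (h : ∀ z, g z = x → z ∈ X'.basicOpen a) : x ∈ X.basicOpen c := by
  have hC : IsClosed (g '' ((X'.basicOpen a : Set X')ᶜ)) := g.isClosedMap _ (X'.basicOpen a).2.isClosed_compl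
  obtain ⟨f, hf, hxf⟩ := hD.exists_basicOpen_le (V := (⟨_, hC.isOpen_compl⟩ : X.Opens))
    ⟨x, fun ⟨z, hz, hzx⟩ => hz (h z hzx)⟩ hx
  have hW₀ : X.basicOpen f ≤ D := X.basicOpen_le f
  have hu : IsUnit (X'.presheaf.map (homOfLE (g.preimage_mono hW₀)).op a) :=
    X'.toRingedSpace.isUnit_of_isUnit_germ _ _ fun z hz => by
      have hza : z ∈ X'.basicOpen a := by
        by_contra hne
        exact hf hz ⟨z, hne, rfl⟩
      erw [TopCat.Presheaf.germ_res_apply]
      exact (X'.mem_basicOpen a z (X'.basicOpen_le a hza)).1 hza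
  obtain ⟨b, hb⟩ := hu.exists_right_inv
  obtain ⟨W, hW, d', cb, hxW, -, -, hcb⟩ :=
    exists_isNorm_normal (hD.basicOpen f) hxf ((Set.Subset.trans hW₀) hξ) b
  have hWD : W ≤ D := hW.trans hW₀
  have h1 : X.presheaf.map (homOfLE hWD).op c * cb = 1 := by
    refine eq_of_nice (g := g) fun V hV d'' hVa hnV => ?_
    rw [map_mul, map_one, res_res', ← hc.val V d'' _ hVa hnV, ← hcb.val V d'' hV hVa hnV, ← map_mul]
    have k := congrArg (X'.presheaf.map (homOfLE (g.preimage_mono (hV.trans hW))).op) hb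
    rw [map_mul, map_one, res_res'] at k
    rw [res_res', k, map_one]
  have h2 : x ∈ X.basicOpen (X.presheaf.map (homOfLE hWD).op c) := by
    rw [Scheme.basicOpen_of_isUnit _ (IsUnit.of_mul_eq_one _ h1)]
    exact hxW
  rw [Scheme.basicOpen_res] at h2
  exact h2.2

end Groth.Agent.NormAmpleLib
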