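import Groth.Agent.PullbackMod.FibreRank
import Groth.Agent.QCohLib.Push

/-! Norms of functions along finite locally free morphisms. -/

set_option autoImplicit false
set_option linter.style.haveILetI false
set_option backward.isDefEq.respectTransparency false

universe u

open CategoryTheory CategoryTheory.Limits AlgebraicGeometry TopologicalSpace Opposite

noncomputable section

namespace Groth.Agent.NormAmpleLib

theorem dvd_algebraMap_norm {R S : Type u} [CommRing R] [CommRing S] [Algebra R S] [Module.Free R S]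
    [Module.Finite R S] (a : S) : a ∣ algebraMap R S (Algebra.norm R a) := by
  cases subsingleton_or_nontrivial R
  · haveI : Subsingleton S := Module.subsingleton R S
    exact ⟨0, Subsingleton.elim _ _⟩
  · have h := Algebra.aeval_self_charpoly_lmul (R := R) a
    rw [Algebra.norm_apply, LinearMap.det_eq_sign_charpoly_coeff, map_mul]
    refine Dvd.dvd.mul_left ?_ _
    rw [← Polynomial.X_mul_divX_add (Algebra.lmul R S a).charpoly, map_add, map_mul, Polynomial.aeval_X,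
      Polynomial.aeval_C, ← eq_neg_iff_add_eq_zero] at h
    exact dvd_neg.1 ⟨_, h.symm⟩

variable {X X' : Scheme.{u}} (g : X' ⟶ X)

/-- The functions of an open as an algebra over the functions of its image. -/
abbrev alg (D : X.Opens) : Algebra Γ(X, D) Γ(X', g ⁻¹ᵁ D) := (g.app D).hom.toAlgebra

/-- The functions over the open are free of the given rank. -/
def Nice (D : X.Opens) (d : ℕ) : Prop :=
  letI := alg g D
  Nonempty (Module.Basis (Fin d) Γ(X, D) Γ(X', g ⁻¹ᵁ D))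

/-- The norm. -/
def nrm (D : X.Opens) : Γ(X', g ⁻¹ᵁ D) →* Γ(X, D) :=
  letI := alg g D
  Algebra.norm Γ(X, D)

variable {g}

theorem nrm_app {D : X.Opens} {d : ℕ} (hn : Nice g D d) (u : Γ(X, D)) : nrm g D (g.app D u) = u ^ d := by
  letI := alg g D
  obtain ⟨b⟩ := hn
  exact (Algebra.norm_algebraMap_of_basis b u).trans (by rw [Fintype.card_fin])

theorem nice_res [IsAffineHom g] {D : X.Opens} (hD : IsAffineOpen D) {d : ℕ} (hn : Nice g D d) (f : Γ(X, D))
    {W : X.Opens} (hW : W = X.basicOpen f) (hWD : W ≤ D) :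
    Nice g W d ∧ ∀ a : Γ(X', g ⁻¹ᵁ D), nrm g W (X'.presheaf.map (homOfLE (g.preimage_mono hWD)).op a) =
      X.presheaf.map (homOfLE hWD).op (nrm g D a) := by
  let Dw := g ⁻¹ᵁ W
  have hW' : g ⁻¹ᵁ W = X'.basicOpen (g.app D f) := by rw [hW, Scheme.preimage_basicOpen]
  letI := alg g D
  letI := alg g W
  letI : Algebra Γ(X, D) Γ(X, W) := (X.presheaf.map (homOfLE hWD).op).hom.toAlgebra
  letI : Algebra Γ(X', g ⁻¹ᵁ D) Γ(X', g ⁻¹ᵁ W) := (X'.presheaf.map (homOfLE (g.preimage_mono hWD)).op).hom.toAlgebra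
  letI : Algebra Γ(X, D) Γ(X', g ⁻¹ᵁ W) :=
    ((X'.presheaf.map (homOfLE (g.preimage_mono hWD)).op).hom.comp (g.app D).hom).toAlgebra
  haveI : IsScalarTower Γ(X, D) Γ(X', g ⁻¹ᵁ D) Γ(X', g ⁻¹ᵁ W) := .of_algebraMap_eq fun _ => rfl
  haveI : IsScalarTower Γ(X, D) Γ(X, W) Γ(X', g ⁻¹ᵁ W) := .of_algebraMap_eq fun r =>
    (ConcreteCategory.congr_hom (g.naturality (homOfLE hWD).op) r).symm
  haveI : IsLocalization.Away f Γ(X, W) := hD.isLocalization_of_eq_basicOpen f (homOfLE hWD) hW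
  haveI : IsLocalization.Away (g.app D f) Γ(X', g ⁻¹ᵁ W) :=
    (hD.preimage g).isLocalization_of_eq_basicOpen _ (homOfLE (g.preimage_mono hWD)) hW'
  haveI : IsLocalization (Algebra.algebraMapSubmonoid Γ(X', g ⁻¹ᵁ D) (Submonoid.powers f)) Γ(X', g ⁻¹ᵁ W) := by
    rw [Algebra.algebraMapSubmonoid, Submonoid.map_powers]
    assumption
  obtain ⟨b⟩ := hn
  haveI : Module.Free Γ(X, D) Γ(X', g ⁻¹ᵁ D) := Module.Free.of_basis b
  haveI : Module.Finite Γ(X, D) Γ(X', g ⁻¹ᵁ D) := Module.Finite.of_basis b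
  exact ⟨⟨b.localizationLocalization Γ(X, W) (Submonoid.powers f) Γ(X', g ⁻¹ᵁ W)⟩,
    fun a => Algebra.norm_localization Γ(X, D) (Submonoid.powers f) a⟩

theorem nice_unique {W : X.Opens} {d d' : ℕ} (h : Nice g W d) (h' : Nice g W d') {x : X} (hx : x ∈ W) : d = d' := by
  letI := alg g W
  haveI : Nonempty W := ⟨⟨x, hx⟩⟩
  obtain ⟨b⟩ := h
  obtain ⟨b'⟩ := h'
  simpa using Fintype.card_congr (b.indexEquiv b')

theorem nice_pos [Surjective g] {W : X.Opens} {d : ℕ} (h : Nice g W d) {x : X} (hx : x ∈ W) : 0 < d := by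
  letI := alg g W
  obtain ⟨b⟩ := h
  obtain ⟨z, rfl⟩ := g.surjective x
  haveI : Nonempty (g ⁻¹ᵁ W : X'.Opens) := ⟨⟨z, hx⟩⟩
  refine Nat.pos_of_ne_zero ?_
  rintro rfl
  exact not_subsingleton Γ(X', g ⁻¹ᵁ W) b.repr.toEquiv.subsingleton

theorem mem_basicOpen_of_nrm {D : X.Opens} {d : ℕ} (hn : Nice g D d) (a : Γ(X', g ⁻¹ᵁ D)) {z : X'}
    (hz : g z ∈ X.basicOpen (nrm g D a)) : z ∈ X'.basicOpen a := by
  letI := alg g D
  obtain ⟨b⟩ := hn
  haveI : Module.Free Γ(X, D) Γ(X', g ⁻¹ᵁ D) := Module.Free.of_basis b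
  haveI : Module.Finite Γ(X, D) Γ(X', g ⁻¹ᵁ D) := Module.Finite.of_basis b
  obtain ⟨c, hc⟩ := dvd_algebraMap_norm (R := Γ(X, D)) a
  have hz' : z ∈ X'.basicOpen (g.app D (nrm g D a)) := by rw [← Scheme.preimage_basicOpen]; exact hz
  rw [show g.app D (nrm g D a) = a * c from hc, Scheme.basicOpen_mul] at hz'
  exact hz'.1

theorem mem_basicOpen_nrm [IsFinite g] {D : X.Opens} (hD : IsAffineOpen D) {d : ℕ} (hn : Nice g D d)
    (a : Γ(X', g ⁻¹ᵁ D)) {x : X} (hx : x ∈ D) (h : ∀ z, g z = x → z ∈ X'.basicOpen a) :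
    x ∈ X.basicOpen (nrm g D a) := by
  have hC : IsClosed (g '' ((X'.basicOpen a : Set X')ᶜ)) := g.isClosedMap _ (X'.basicOpen a).2.isClosed_compl
  have hxC : x ∈ D ⊓ (⟨(g '' ((X'.basicOpen a : Set X')ᶜ))ᶜ, hC.isOpen_compl⟩ : X.Opens) :=
    ⟨hx, fun ⟨z, hz, hzx⟩ => hz (h z hzx)⟩
  obtain ⟨f, hf, hxf⟩ := hD.exists_basicOpen_le (V := D ⊓ (⟨(g '' ((X'.basicOpen a : Set X')ᶜ))ᶜ, hC.isOpen_compl⟩ : X.Opens)) ⟨x, hxC⟩ hx
  obtain ⟨hn', hres⟩ := nice_res hD hn f rfl (X.basicOpen_le f)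
  have hu : IsUnit (X'.presheaf.map (homOfLE (g.preimage_mono (X.basicOpen_le f))).op a) :=
    X'.toRingedSpace.isUnit_of_isUnit_germ _ _ fun z hz => by
      have hza : z ∈ X'.basicOpen a := by
        by_contra hne
        exact (hf hz).2 ⟨z, hne, rfl⟩
      erw [TopCat.Presheaf.germ_res_apply]
      exact (X'.mem_basicOpen a z (X'.basicOpen_le a hza)).1 hza
  have hu' := hu.map (nrm g (X.basicOpen f))
  rw [hres] at hu'
  have h' : x ∈ X.basicOpen (X.presheaf.map (homOfLE (X.basicOpen_le f)).op (nrm g D a)) := by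
    rw [Scheme.basicOpen_of_isUnit _ hu']
    exact hxf
  rw [Scheme.basicOpen_res] at h'
  exact h'.2

theorem exists_nice [IsAffineHom g] (h : FlatMod.IsFinLocFree ((Scheme.Modules.pushforward g).obj (Coh.structureModule X')))
    (x : X) : ∃ (D : X.Opens) (d : ℕ), x ∈ D ∧ IsAffineOpen D ∧ Nice g D d := by
  obtain ⟨D, hD, n, hx, ⟨i⟩⟩ := PullbackMod.exists_tilde_iso _ h x
  refine ⟨D, n, hx, hD, ?_⟩
  letI := alg g D
  let P := (Scheme.Modules.pushforward g).obj (Coh.structureModule X')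
  haveI := (PullbackMod.isQCoh_and_isFP_of_isFinLocFree P h).1
  let eΓ := (moduleSpecΓFunctor (R := Γ(X, D))).mapIso i ≪≫ ((tilde.toTildeΓNatIso (R := Γ(X, D))).app _).symm
  let e' : Γ(P, D) ≃ₗ[Γ(X, D)] (ULift.{u} (Fin n) →₀ Γ(X, D)) :=
    (QCohLib.topEquiv P hD).symm.trans eΓ.toLinearEquiv
  let e₀ : Γ(X', g ⁻¹ᵁ D) ≃ₗ[Γ(X, D)] Γ(P, D) :=
    { AddEquiv.refl _ with map_smul' := fun r s => Algebra.smul_def r s }
  exact ⟨(Module.Basis.ofRepr (e₀.trans e')).reindex Equiv.ulift⟩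

end Groth.Agent.NormAmpleLib
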