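import Groth.Agent.NormAmpleLib.Descent
import Groth.Agent.NormAmpleLib.NormalNorm
import Groth.Agent.AmpleEmb.FiniteSet
import Groth.Agent.AmpleEmb.ComposeRel
import Groth.Agent.AmpleLib.RelLocal

/-! Ampleness descends along finite surjections onto reduced schemes, normal or locally free at each point. -/

set_option autoImplicit false
set_option linter.style.haveILetI false
set_option backward.isDefEq.respectTransparency false

universe u

open CategoryTheory CategoryTheory.Limits AlgebraicGeometry TopologicalSpace Opposite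
open Groth.Agent.ParaFLib Groth.Agent.PullbackMod Groth.Agent.DCohLib Groth.Agent.AmpleLib

noncomputable section

namespace Groth.Agent.NormAmpleLib

variable {X X' : Scheme.{u}}

/-- The hypothesis on the morphism at a point. -/
def GoodAt (g : X' ⟶ X) (x : X) : Prop :=
  (IsDomain (X.presheaf.stalk x) ∧ IsIntegrallyClosed (X.presheaf.stalk x)) ∨
    ∃ (D : X.Opens) (d : ℕ), x ∈ D ∧ IsAffineOpen D ∧ Nice g D d

theorem exists_chart [IsNoetherian X] [IsReduced X] (g : X' ⟶ X) [IsFinite g] [Surjective g] {x : X}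
    (hg : GoodAt g x) {P : X.Modules} (hP : PicF.IsInvertible P)
    (s : Coh.structureModule X' ⟶ (Scheme.Modules.pullback g).obj P) :
    ∃ (D : X.Opens) (d : ℕ) (e : Γ(P, D)) (a : Γ(X', g ⁻¹ᵁ D)) (c : Γ(X, D)), x ∈ D ∧ 0 < d ∧ Gen D e ∧
      a • pullMap g P le_rfl e = resT (sec s) (g ⁻¹ᵁ D) ∧ IsNorm g d a c ∧
      ((∀ z, g z = x → z ∈ X'.basicOpen a) → x ∈ X.basicOpen c) := by
  obtain ⟨W, e, hxW, he⟩ := exists_gen_nhd hP x
  have hcoef : ∀ (D : X.Opens) (h : D ≤ W), ∃ a : Γ(X', g ⁻¹ᵁ D),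
      a • pullMap g P le_rfl (P.presheaf.map (homOfLE h).op e) = resT (sec s) (g ⁻¹ᵁ D) := fun D h => by
    obtain ⟨a, ha⟩ := ((AmpleEmb.gen_pullMap g hP (he.res h)) _ le_rfl).2 (resT (sec s) (g ⁻¹ᵁ D))
    simp only [ParaFLib.res_self] at ha
    exact ⟨a, ha⟩
  rcases hg with ⟨h1, h2⟩ | ⟨D₀, d, hx0, hD₀, hn⟩
  · haveI := h1
    haveI := h2
    obtain ⟨V, hxV, hV⟩ := NormalSch.exists_nhd_subset_closure x
    obtain ⟨_, ⟨D, hD, rfl⟩, hxD, hDW⟩ :=
      X.isBasis_affineOpens.exists_subset_of_mem_open (show x ∈ W ⊓ V from ⟨hxW, hxV⟩) (W ⊓ V).2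
    have hDW' : D ≤ W := fun y hy => (hDW hy).1
    have hξ := fun y hy => hV (hDW (a := y) hy).2
    obtain ⟨a, ha⟩ := hcoef D hDW'
    obtain ⟨W', h', d, c, hxW', hW', hd, hc⟩ := exists_isNorm_normal hD hxD hξ a
    refine ⟨W', d, P.presheaf.map (homOfLE (h'.trans hDW')).op e,
      X'.presheaf.map (homOfLE (g.preimage_mono h')).op a, c, hxW', hd, he.res _, ?_, hc,
      fun hz => mem_basicOpen_of_isNorm hW' hxW' (fun y hy => hξ y (h' hy)) hc hz⟩
    rw [← ParaFLib.res_res hDW' h' e, ← pullMap_res g P h', ← Scheme.Modules.map_smul, ha, resT, resT, ParaFLib.res_res]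
  · obtain ⟨f, hf, hxf⟩ := hD₀.exists_basicOpen_le (V := W) ⟨x, hxW⟩ hx0
    obtain ⟨a, ha⟩ := hcoef _ hf
    have hn' := (nice_res hD₀ hn f rfl (X.basicOpen_le f)).1
    exact ⟨X.basicOpen f, d, P.presheaf.map (homOfLE hf).op e, a, nrm g _ a, hxf, nice_pos hn hx0, he.res hf, ha,
      isNorm_free (hD₀.basicOpen f) hn' a, fun hz => mem_basicOpen_nrm (hD₀.basicOpen f) hn' a hxf hz⟩

/-- The norm section: an invertible module with a section whose locus descends that of an upstairs section. -/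
theorem exists_norm_section_of_goodAt [IsNoetherian X] [IsReduced X] (g : X' ⟶ X) [IsFinite g] [Surjective g]
    (hg : ∀ x, GoodAt g x)
    {P : X.Modules} (hP : PicF.IsInvertible P) (s : Coh.structureModule X' ⟶ (Scheme.Modules.pullback g).obj P) :
    ∃ (R : ℕ) (t : Coh.structureModule X ⟶ CohB1.tensorPow P (R + 1)),
      (∀ x : X, (∀ z, g z = x → z ∈ CohB1.genLocus _ s) → x ∈ CohB1.genLocus _ t) ∧
      (∀ y ∈ CohB1.genLocus _ t, ∃ z : X', g z = y ∧ z ∈ CohB1.genLocus _ s) := by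
  classical
  let P' := (Scheme.Modules.pullback g).obj P
  -- the charts
  choose D d e a c₀ hxD hdpos he ha hc hmem using fun x => exists_chart g (hg x) hP s
  obtain ⟨T, hT⟩ := isCompact_univ.elim_finite_subcover (fun x : X => (D x : Set X)) (fun x => (D x).2)
    fun x _ => Set.mem_iUnion.2 ⟨x, hxD x⟩
  let R' := ∏ x ∈ T, d x
  have hR : 0 < R' := Finset.prod_pos fun x _ => hdpos x
  obtain ⟨R, hR'⟩ : ∃ R, R' = R + 1 := ⟨R' - 1, (Nat.succ_pred_eq_of_pos hR).symm⟩
  have hdvd : ∀ x : X, d x ∣ R + 1 := fun x => by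
    obtain ⟨y, hyT, hxy⟩ := Set.mem_iUnion₂.1 (hT (Set.mem_univ x))
    obtain ⟨W, n, z, hz, hW, hWa, hn⟩ := exists_nice_in (g := g) (U := D x ⊓ D y) (x := x) ⟨hxD x, hxy⟩
    rw [← (hc x).rank W n (hW.trans inf_le_left) hWa hn z hz, (hc y).rank W n (hW.trans inf_le_right) hWa hn z hz]
    exact hR' ▸ Finset.dvd_prod_of_mem d hyT
  let c : ∀ x : X, Γ(X, D x) := fun x => c₀ x ^ ((R + 1) / d x)
  let sf : ∀ x : X, Γ(CohB1.tensorPow P (R + 1), D x) := fun x => c x • powLoc (e x) (R + 1)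
  let G : TopCat.Sheaf Ab.{u} X.carrier := ⟨(CohB1.tensorPow P (R + 1)).presheaf, (CohB1.tensorPow P (R + 1)).isSheaf⟩
  have hcompat : TopCat.Presheaf.IsCompatible G.obj (fun x : X => D x) sf := by
    intro x y
    let W := D x ⊓ D y
    have hWx : W ≤ D x := inf_le_left
    have hWy : W ≤ D y := inf_le_right
    let ex := P.presheaf.map (homOfLE hWx).op (e x)
    let ey := P.presheaf.map (homOfLE hWy).op (e y)
    obtain ⟨u, hu⟩ := (((he x).res hWx) W le_rfl).2 ey
    simp only [ParaFLib.res_self] at hu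
    change u • ex = ey at hu
    let ax := X'.presheaf.map (homOfLE (g.preimage_mono hWx)).op (a x)
    let ay := X'.presheaf.map (homOfLE (g.preimage_mono hWy)).op (a y)
    have e1 : ax • pullMap g P le_rfl ex = resT (sec s) (g ⁻¹ᵁ W) := by
      rw [← pullMap_res g P hWx, ← P'.map_smul, ha, resT, resT, ParaFLib.res_res]
    have e2 : ay • pullMap g P le_rfl ey = resT (sec s) (g ⁻¹ᵁ W) := by
      rw [← pullMap_res g P hWy, ← P'.map_smul, ha, resT, resT, ParaFLib.res_res]
    rw [← hu, pullMap_smul, smul_smul, ← Scheme.Hom.app_eq_appLE, ← e1] at e2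
    have e3 : ay * g.app W u = ax := gen_smul_inj (AmpleEmb.gen_pullMap g hP ((he x).res hWx)) e2
    show (CohB1.tensorPow P (R + 1)).presheaf.map (homOfLE hWx).op (sf x) =
        (CohB1.tensorPow P (R + 1)).presheaf.map (homOfLE hWy).op (sf y)
    simp only [sf, c]
    rw [Scheme.Modules.map_smul, Scheme.Modules.map_smul, powLoc_res hWx, powLoc_res hWy, map_pow, map_pow,
      show P.presheaf.map (homOfLE hWy).op (e y) = u • ex from hu.symm, powLoc_smul, smul_smul]
    refine congrArg (· • powLoc ex (R + 1)) (eq_of_nice (g := g) fun V hV n hVa hn => ?_)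
    rcases Classical.em (∃ z, z ∈ V) with ⟨z, hz⟩ | hempty
    swap
    · exact TopCat.Presheaf.section_ext X.sheaf V _ _ fun z hz => absurd ⟨z, hz⟩ hempty
    have hx' : n = d x := (hc x).rank V n (hV.trans hWx) hVa hn z hz
    have hy' : n = d y := (hc y).rank V n (hV.trans hWy) hVa hn z hz
    rw [map_pow, map_mul, map_pow, map_pow, res_res', res_res', ← (hc x).val V n _ hVa hn, ← (hc y).val V n _ hVa hn,
      ← res_res' X' (g.preimage_mono hWx) (g.preimage_mono hV) (a x),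
      show X'.presheaf.map (homOfLE (g.preimage_mono hWx)).op (a x) = ay * g.app W u from e3.symm, map_mul,
      ← res_res' X' (g.preimage_mono hWy) (g.preimage_mono hV) (a y),
      show X'.presheaf.map (homOfLE (g.preimage_mono hV)).op (g.app W u) = g.app V (X.presheaf.map (homOfLE hV).op u)
        from (ConcreteCategory.congr_hom (g.naturality (homOfLE hV).op) u).symm,
      map_mul, nrm_app hn, mul_pow, ← pow_mul, ← hx', ← hy', Nat.mul_div_cancel' (hx' ▸ hdvd x)]
  obtain ⟨σ, hσ, -⟩ := G.existsUnique_gluing' (fun x : X => D x) ⊤ (fun x => homOfLE le_top)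
    (fun z _ => Opens.mem_iSup.2 ⟨z, hxD z⟩) sf hcompat
  refine ⟨R, secHom (CohB1.tensorPow P (R + 1)) σ, ?_⟩
  have hloc' : ∀ x : X, CohB1.genLocus _ (secHom (CohB1.tensorPow P (R + 1)) σ) ⊓ D x = X.basicOpen (c₀ x) := fun x => by
    rw [genLocus_inf_eq_basicOpen _ (gen_powLoc (he x) (R + 1)) (a := c x)
      (by rw [sec_secHom]; exact (hσ x).symm)]
    exact X.basicOpen_pow _ (Nat.div_pos (Nat.le_of_dvd R.succ_pos (hdvd x)) (hdpos x))
  have hsa : ∀ x : X, CohB1.genLocus P' s ⊓ g ⁻¹ᵁ D x = X'.basicOpen (a x) := fun x =>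
    genLocus_inf_eq_basicOpen s (AmpleEmb.gen_pullMap g hP (he x)) (ha x)
  refine ⟨fun x hx => ((hloc' x).ge (hmem x fun z hz => (hsa x).le ⟨hx z hz, (show g z ∈ D x from hz.symm ▸ hxD x)⟩)).1,
    fun y hy => ?_⟩
  obtain ⟨z, hzy, hz⟩ := (hc y).exists_mem y ((hloc' y).le ⟨hy, hxD y⟩)
  exact ⟨z, hzy, ((hsa y).ge hz).1⟩

/-- An invertible module is ample when its pullback along a finite surjection, good everywhere, is. -/
theorem isAmple_of_pullback_of_goodAt [IsNoetherian X] [IsReduced X] (g : X' ⟶ X) [IsFinite g] [Surjective g]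
    (hg : ∀ x, GoodAt g x)
    {L : X.Modules} (hL : PicF.IsInvertible L) (h : CohB1.IsAmple ((Scheme.Modules.pullback g).obj L)) :
    CohB1.IsAmple L := by
  refine ⟨hL, inferInstance, fun x => ?_⟩
  obtain ⟨_, ⟨N, hN, rfl⟩, hxN, -⟩ := X.isBasis_affineOpens.exists_subset_of_mem_open (Set.mem_univ x) isOpen_univ
  obtain ⟨n, s, hZ, hsub, -⟩ := AmpleEmb.exists_genLocus_finite h (IsFinite.finite_preimage_singleton g x)
    (U := g ⁻¹ᵁ N) (fun z hz => show g z ∈ N from hz.symm ▸ hxN)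
  let P := CohB1.tensorPow L (n + 1)
  let s' : Coh.structureModule X' ⟶ (Scheme.Modules.pullback g).obj P := s ≫ (pullPow g L (n + 1)).inv
  have hs' : CohB1.genLocus _ s' = CohB1.genLocus _ s := genLocus_comp_iso s (pullPow g L (n + 1)).symm
  obtain ⟨R, t, h1, h2⟩ := exists_norm_section_of_goodAt g hg (isInvertible_tensorPow hL (n + 1)) s'
  obtain ⟨k, hk⟩ : ∃ k, (n + 1) * (R + 1) = k + 1 := ⟨(n + 1) * (R + 1) - 1, (Nat.succ_pred_eq_of_pos (by positivity)).symm⟩
  let t' := t ≫ (powMul L (n + 1) (R + 1) ≪≫ eqToIso (congrArg (CohB1.tensorPow L) hk)).hom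
  have hx : x ∈ CohB1.genLocus _ t' := by
    rw [genLocus_comp_iso]
    exact h1 x fun z hz => hs'.ge (hZ hz)
  have htN : CohB1.genLocus _ t' ≤ N := fun y hy => by
    rw [genLocus_comp_iso] at hy
    obtain ⟨z, rfl, hz⟩ := h2 y hy
    exact hsub (hs'.le hz)
  refine ⟨k, t', hx, ?_⟩
  have := isAffineOpen_inf_genLocus (isInvertible_tensorPow hL (k + 1)) t' hN
  rwa [inf_eq_left.2 htN] at this

end Groth.Agent.NormAmpleLib
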